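import Cfsg.Agent.LieClassical.OrthFinite
import Cfsg.Agent.H990.TC.OrthCent
import Cfsg.Agent.H105.Og.Defs
import Cfsg.Agent.H514.DP.Cyc_m3
import Cfsg.Agent.S0286
import Cfsg.Agent.LieClassical.OrthSimple
import Cfsg.Agent.FastGrp
import Cfsg.Agent.Prune
set_option linter.all false

section
prune_inst 0x7f00000000000000000000000000000000000000000000000000000000000000000000000000000000000000000000000000000000000000000000000000000000000000000000000000000000000000003fffffffffffffffffffffffffffbeffbdffffffff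

-- part: H36/Og/LemC
section
set_option linter.all false
open scoped Cfsg.Agent.FastGrp

/-!
# Isometries of nondegenerate quadratic spaces of dimension three and four (task of helper105, S2454)
-/

set_option autoImplicit false
set_option linter.unusedVariables false
set_option linter.unusedSectionVars false

namespace Cfsg.Agent.H36.Og

open QuadraticMap Module Cfsg.Agent.LieClassical.OrthCore

variable {F : Type*} [Field F] [Finite F] {V : Type*} [AddCommGroup V] [Module F V] [FiniteDimensional F V]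

/-- the isometries -/
abbrev Iso (Q : QuadraticForm F V) : Type _ := {y : Module.End F V // ∀ v, Q (y v) = Q v}

theorem iso_polar {Q : QuadraticForm F V} (y : Iso Q) (v w : V) : polar Q (y.1 v) (y.1 w) = polar Q v w :=
  Cfsg.Agent.H990.TC.Cent.polar_isom Q y.1 y.2 v w

theorem iso_inj {Q : QuadraticForm F V} (hQ : Nondeg Q) (y : Iso Q) : Function.Injective y.1 := by
  rw [injective_iff_map_eq_zero]
  intro u hu
  apply hQ
  intro v
  rw [← iso_polar y, hu, QuadraticMap.polar_zero_left]

/-- the inverse of an isometry -/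
noncomputable def inv {Q : QuadraticForm F V} (hQ : Nondeg Q) (y : Iso Q) : V ≃ₗ[F] V :=
  LinearEquiv.ofInjectiveEndo y.1 (iso_inj hQ y)

theorem inv_apply {Q : QuadraticForm F V} (hQ : Nondeg Q) (y : Iso Q) (v : V) : inv hQ y v = y.1 v := rfl

theorem inv_symm {Q : QuadraticForm F V} (hQ : Nondeg Q) (y : Iso Q) (v : V) : Q ((inv hQ y).symm v) = Q v := by
  rw [← y.2 ((inv hQ y).symm v), ← inv_apply hQ y, LinearEquiv.apply_symm_apply]

/-- isometries with prescribed values: at most as many as isometries fixing the vectors -/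
theorem card_pres {ι : Type*} {Q : QuadraticForm F V} (hQ : Nondeg Q) (e z : ι → V) :
    Nat.card {y : Iso Q // ∀ i, y.1 (e i) = z i} ≤ Nat.card {y : Iso Q // ∀ i, y.1 (e i) = e i} := by
  haveI : Finite (Iso Q) := by
    haveI : Finite (Module.End F V) := Cfsg.Agent.H990.TC.Cent.instFiniteEnd
    infer_instance
  by_cases hne : Nonempty {y : Iso Q // ∀ i, y.1 (e i) = z i}
  swap
  · rw [not_nonempty_iff] at hne
    rw [Nat.card_of_isEmpty]
    exact Nat.zero_le _
  obtain ⟨y0, hy0⟩ := hne
  let g : {y : Iso Q // ∀ i, y.1 (e i) = z i} → {y : Iso Q // ∀ i, y.1 (e i) = e i} := fun y =>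
    ⟨⟨(inv hQ y0).symm.toLinearMap ∘ₗ y.1.1, fun v => by
      show Q ((inv hQ y0).symm (y.1.1 v)) = Q v
      rw [inv_symm, y.1.2]⟩, fun i => by
      show (inv hQ y0).symm (y.1.1 (e i)) = e i
      rw [y.2, LinearEquiv.symm_apply_eq, inv_apply, hy0]⟩
  refine Nat.card_le_card_of_injective g fun y y' h => ?_
  apply Subtype.ext
  apply Subtype.ext
  apply LinearMap.ext
  intro v
  have h1 : (g y).1.1 v = (g y').1.1 v := by rw [h]
  exact (inv hQ y0).symm.injective h1

/-- the orthogonal space of a hyperbolic pair -/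
def perp (Q : QuadraticForm F V) (e f : V) : Submodule F V :=
  LinearMap.ker (polarBilin Q e) ⊓ LinearMap.ker (polarBilin Q f)

theorem mem_perp {Q : QuadraticForm F V} {e f w : V} : w ∈ perp Q e f ↔ polar Q e w = 0 ∧ polar Q f w = 0 := by
  rw [perp, Submodule.mem_inf, LinearMap.mem_ker, LinearMap.mem_ker]
  rfl

section Pair

variable {Q : QuadraticForm F V} {e f : V} (he : Q e = 0) (hf : Q f = 0) (hef : polar Q e f = 1)

include he hf hef

theorem decomp (v : V) : v - polar Q f v • e - polar Q e v • f ∈ perp Q e f := by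
  have hee : polar Q e e = 0 := by rw [polar_self', he, mul_zero]
  have hff : polar Q f f = 0 := by rw [polar_self', hf, mul_zero]
  have hfe : polar Q f e = 1 := by rw [polar_comm, hef]
  rw [mem_perp]
  constructor
  · rw [QuadraticMap.polar_sub_right, QuadraticMap.polar_sub_right, QuadraticMap.polar_smul_right,
      QuadraticMap.polar_smul_right, hee, hef]
    simp
  · rw [QuadraticMap.polar_sub_right, QuadraticMap.polar_sub_right, QuadraticMap.polar_smul_right,
      QuadraticMap.polar_smul_right, hff, hfe]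
    simp

/-- the space is a product -/
noncomputable def split : V ≃ₗ[F] (F × F) × perp Q e f where
  toFun v := ((polar Q f v, polar Q e v), ⟨_, decomp he hf hef v⟩)
  map_add' v w := by
    refine Prod.ext (Prod.ext ?_ ?_) (Subtype.ext ?_)
    · exact QuadraticMap.polar_add_right (Q := Q) f v w
    · exact QuadraticMap.polar_add_right (Q := Q) e v w
    · show v + w - polar Q f (v + w) • e - polar Q e (v + w) • f = (v - polar Q f v • e - polar Q e v • f) +
        (w - polar Q f w • e - polar Q e w • f)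
      rw [QuadraticMap.polar_add_right, QuadraticMap.polar_add_right, add_smul, add_smul]
      abel
  map_smul' c v := by
    refine Prod.ext (Prod.ext ?_ ?_) (Subtype.ext ?_)
    · show polar Q f (c • v) = c • polar Q f v
      rw [QuadraticMap.polar_smul_right]
    · show polar Q e (c • v) = c • polar Q e v
      rw [QuadraticMap.polar_smul_right]
    · show c • v - polar Q f (c • v) • e - polar Q e (c • v) • f = c • (v - polar Q f v • e - polar Q e v • f)
      rw [QuadraticMap.polar_smul_right, QuadraticMap.polar_smul_right, smul_sub, smul_sub, smul_smul, smul_smul]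
      simp only [smul_eq_mul]
  invFun t := t.1.1 • e + t.1.2 • f + (t.2 : V)
  left_inv v := by
    show polar Q f v • e + polar Q e v • f + (v - polar Q f v • e - polar Q e v • f) = v
    abel
  right_inv t := by
    have hee : polar Q e e = 0 := by rw [polar_self', he, mul_zero]
    have hff : polar Q f f = 0 := by rw [polar_self', hf, mul_zero]
    have hfe : polar Q f e = 1 := by rw [polar_comm, hef]
    obtain ⟨h1, h2⟩ := mem_perp.1 t.2.2
    have h3 : polar Q f (t.1.1 • e + t.1.2 • f + (t.2 : V)) = t.1.1 := by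
      rw [QuadraticMap.polar_add_right, QuadraticMap.polar_add_right, QuadraticMap.polar_smul_right,
        QuadraticMap.polar_smul_right, hfe, hff, h2]
      simp
    have h4 : polar Q e (t.1.1 • e + t.1.2 • f + (t.2 : V)) = t.1.2 := by
      rw [QuadraticMap.polar_add_right, QuadraticMap.polar_add_right, QuadraticMap.polar_smul_right,
        QuadraticMap.polar_smul_right, hee, hef, h1]
      simp
    refine Prod.ext (Prod.ext h3 h4) (Subtype.ext ?_)
    show (t.1.1 • e + t.1.2 • f + (t.2 : V)) - polar Q f (t.1.1 • e + t.1.2 • f + (t.2 : V)) • e -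
      polar Q e (t.1.1 • e + t.1.2 • f + (t.2 : V)) • f = (t.2 : V)
    rw [h3, h4]
    abel

theorem Q_split (t : (F × F) × perp Q e f) :
    Q (t.1.1 • e + t.1.2 • f + (t.2 : V)) = t.1.1 * t.1.2 + Q (t.2 : V) := by
  obtain ⟨h1, h2⟩ := mem_perp.1 t.2.2
  rw [Q_add, Q_add, QuadraticMap.map_smul, QuadraticMap.map_smul, he, hf, QuadraticMap.polar_add_left,
    QuadraticMap.polar_smul_left, QuadraticMap.polar_smul_left, QuadraticMap.polar_smul_left,
    QuadraticMap.polar_smul_right, hef, h1, h2]
  simp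

theorem finrank_perp : finrank F (perp Q e f) + 2 = finrank F V := by
  have h := (split he hf hef).finrank_eq
  rw [finrank_prod, finrank_prod, finrank_self] at h
  omega

/-- the restriction of the form -/
theorem nondeg_perp (hQ : Nondeg Q) : Nondeg (Q.comp (perp Q e f).subtype) := by
  intro x hx
  apply Subtype.ext
  apply hQ
  intro y
  obtain ⟨h1, h2⟩ := mem_perp.1 x.2
  have h3 := hx ⟨_, decomp he hf hef y⟩
  have h4 : polar Q (x : V) (y - polar Q f y • e - polar Q e y • f) = 0 := h3
  rw [QuadraticMap.polar_sub_right, QuadraticMap.polar_sub_right, QuadraticMap.polar_smul_right,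
    QuadraticMap.polar_smul_right, polar_comm Q (x : V) e, polar_comm Q (x : V) f, h1, h2] at h4
  simpa using h4

theorem card_fix2 :
    Nat.card {y : Iso Q // ∀ i : Fin 2, y.1 (![e, f] i) = ![e, f] i} ≤
      Nat.card (Iso (Q.comp (perp Q e f).subtype)) := by
  haveI : Finite (Iso (Q.comp (perp Q e f).subtype)) := by
    haveI : Finite (Module.End F (perp Q e f)) := Cfsg.Agent.H990.TC.Cent.instFiniteEnd
    infer_instance
  have hpres : ∀ y : {y : Iso Q // ∀ i : Fin 2, y.1 (![e, f] i) = ![e, f] i}, ∀ w ∈ perp Q e f,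
      y.1.1 w ∈ perp Q e f := by
    intro y w hw
    obtain ⟨h1, h2⟩ := mem_perp.1 hw
    have h3 : y.1.1 e = e := y.2 0
    have h4 : y.1.1 f = f := y.2 1
    rw [mem_perp]
    constructor
    · nth_rw 1 [← h3]; rw [iso_polar, h1]
    · nth_rw 1 [← h4]; rw [iso_polar, h2]
  let g : {y : Iso Q // ∀ i : Fin 2, y.1 (![e, f] i) = ![e, f] i} → Iso (Q.comp (perp Q e f).subtype) := fun y =>
    ⟨y.1.1.restrict (hpres y), fun w => y.1.2 (w : V)⟩
  refine Nat.card_le_card_of_injective g fun y y' h => ?_
  apply Subtype.ext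
  apply Subtype.ext
  apply LinearMap.ext
  intro v
  have h3 : y.1.1 e = e := y.2 0
  have h4 : y.1.1 f = f := y.2 1
  have h3' : y'.1.1 e = e := y'.2 0
  have h4' : y'.1.1 f = f := y'.2 1
  have h5 : y.1.1 (v - polar Q f v • e - polar Q e v • f) = y'.1.1 (v - polar Q f v • e - polar Q e v • f) := by
    have h6 : (g y).1 ⟨_, decomp he hf hef v⟩ = (g y').1 ⟨_, decomp he hf hef v⟩ := by rw [h]
    exact congrArg Subtype.val h6
  rw [map_sub, map_sub, map_sub, map_sub, map_smul, map_smul, map_smul, map_smul, h3, h4, h3', h4'] at h5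
  exact sub_left_injective (sub_left_injective h5)

theorem card_fix1 (hQ : Nondeg Q) {c : ℕ} (hc : Nat.card (Iso (Q.comp (perp Q e f).subtype)) ≤ c) :
    Nat.card {y : Iso Q // ∀ i : Fin 1, y.1 (![e] i) = ![e] i} ≤ c * Nat.card (perp Q e f) := by
  haveI : Finite (Iso Q) := by
    haveI : Finite (Module.End F V) := Cfsg.Agent.H990.TC.Cent.instFiniteEnd
    infer_instance
  haveI : Finite V := Module.finite_of_finite F
  refine Cfsg.Agent.H990.TC.Cent.card_le_of_fibres
    (fun y : {y : Iso Q // ∀ i : Fin 1, y.1 (![e] i) = ![e] i} => (⟨_, decomp he hf hef (y.1.1 f)⟩ : perp Q e f)) c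
    fun u => ?_
  refine le_trans ?_ ((card_pres hQ ![e, f] ![e, (-Q (u : V)) • e + (1 : F) • f + (u : V)]).trans
    ((card_fix2 he hf hef).trans hc))
  have hee : polar Q e e = 0 := by rw [polar_self', he, mul_zero]
  have hkey : ∀ y : {y : {y : Iso Q // ∀ i : Fin 1, y.1 (![e] i) = ![e] i} //
      (⟨_, decomp he hf hef (y.1.1 f)⟩ : perp Q e f) = u}, y.1.1.1 f = (-Q (u : V)) • e + (1 : F) • f + (u : V) := by
    intro y
    have h3 : y.1.1.1 e = e := y.1.2 0
    have h1 : y.1.1.1 f - polar Q f (y.1.1.1 f) • e - polar Q e (y.1.1.1 f) • f = (u : V) := congrArg Subtype.val y.2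
    have h2 : polar Q e (y.1.1.1 f) = 1 := by
      nth_rw 1 [← h3]; rw [iso_polar, hef]
    rw [h2] at h1
    have h4 : y.1.1.1 f = polar Q f (y.1.1.1 f) • e + (1 : F) • f + (u : V) := by
      rw [← h1]; abel
    have h5 : Q (y.1.1.1 f) = 0 := by rw [y.1.1.2, hf]
    have h6 := Q_split he hf hef ((polar Q f (y.1.1.1 f), 1), u)
    have h7 : Q (y.1.1.1 f) = polar Q f (y.1.1.1 f) * 1 + Q (u : V) := by
      rw [← h6]; exact congrArg Q h4
    rw [h5] at h7
    have h8 : polar Q f (y.1.1.1 f) = -Q (u : V) := by linear_combination -h7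
    rw [h8] at h4
    exact h4
  let g : {y : {y : Iso Q // ∀ i : Fin 1, y.1 (![e] i) = ![e] i} //
      (⟨_, decomp he hf hef (y.1.1 f)⟩ : perp Q e f) = u} →
      {y : Iso Q // ∀ i : Fin 2, y.1 (![e, f] i) = ![e, (-Q (u : V)) • e + (1 : F) • f + (u : V)] i} := fun y =>
    ⟨y.1.1, fun i => by
      fin_cases i
      · exact y.1.2 0
      · exact hkey y⟩
  refine Nat.card_le_card_of_injective g fun y y' h => ?_
  apply Subtype.ext
  apply Subtype.ext
  have h1 : (g y).1 = (g y').1 := congrArg Subtype.val h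
  exact h1

theorem card_iso_hyp (hQ : Nondeg Q) {c N : ℕ} (hc : Nat.card (Iso (Q.comp (perp Q e f).subtype)) ≤ c)
    (hN : Nat.card {z : V // z ≠ 0 ∧ Q z = 0} ≤ N) :
    Nat.card (Iso Q) ≤ c * Nat.card (perp Q e f) * N := by
  haveI : Finite (Iso Q) := by
    haveI : Finite (Module.End F V) := Cfsg.Agent.H990.TC.Cent.instFiniteEnd
    infer_instance
  haveI : Finite V := Module.finite_of_finite F
  have he0 : e ≠ 0 := by rintro rfl; simp at hef
  refine le_trans (Cfsg.Agent.H990.TC.Cent.card_le_of_fibres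
    (fun y : Iso Q => (⟨y.1 e, fun h => he0 (iso_inj hQ y (by rw [h, map_zero])), by rw [y.2, he]⟩ :
      {z : V // z ≠ 0 ∧ Q z = 0})) (c * Nat.card (perp Q e f)) fun z => ?_) (Nat.mul_le_mul_left _ hN)
  refine le_trans ?_ ((card_pres hQ ![e] ![(z : V)]).trans (card_fix1 he hf hef hQ hc))
  refine Nat.card_le_card_of_injective (fun y => (⟨y.1, fun i => by
    fin_cases i
    exact congrArg Subtype.val y.2⟩ : {y : Iso Q // ∀ i : Fin 1, y.1 (![e] i) = ![(z : V)] i})) fun y y' h => ?_
  apply Subtype.ext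
  have h1 := congrArg (fun t : {y : Iso Q // ∀ i : Fin 1, y.1 (![e] i) = ![(z : V)] i} => t.1) h
  exact h1

end Pair

/-- singular vectors of a plane -/
theorem card_sing_two {Q : QuadraticForm F V} (hQ : Nondeg Q) (h : finrank F V = 2) :
    Nat.card {z : V // Q z = 0} ≤ 2 * Nat.card F - 1 := by
  classical
  haveI : Finite V := Module.finite_of_finite F
  haveI : Nontrivial V := Module.nontrivial_of_finrank_pos (R := F) (by omega)
  have hnd : ∀ u, (∀ v, QuadraticMap.polar Q v u = 0) → u = 0 := fun u hu => hQ u fun v => by rw [polar_comm, hu]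
  obtain ⟨v, hQv⟩ : ∃ v, Q v ≠ 0 := by
    by_contra hcon
    push Not at hcon
    obtain ⟨u, hu⟩ := exists_ne (0 : V)
    exact hu (hnd u fun v => by rw [QuadraticMap.polar, hcon, hcon, hcon]; simp)
  have hv0 : v ≠ 0 := by rintro rfl; exact hQv (by simp)
  obtain ⟨w, hw⟩ : ∃ w, w ∉ Submodule.span F {v} := by
    by_contra hcon
    push Not at hcon
    have h1 : (Submodule.span F {v} : Submodule F V) = ⊤ := by
      rw [eq_top_iff]; exact fun x _ => hcon x
    have h2 := finrank_span_singleton (K := F) hv0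
    rw [h1, finrank_top, h] at h2
    omega
  have hli : LinearIndependent F ![v, w] := by
    rw [LinearIndependent.pair_iff' hv0]
    intro a ha
    exact hw (Submodule.mem_span_singleton.2 ⟨a, ha⟩)
  have hspan : ∀ u : V, ∃ s t : F, u = s • v + t • w := by
    intro u
    have h1 := hli.span_eq_top_of_card_eq_finrank' (by simp [h])
    have h2 : u ∈ Submodule.span F (Set.range ![v, w]) := by rw [h1]; exact Submodule.mem_top
    rw [Matrix.range_cons, Matrix.range_cons, Matrix.range_empty, Set.union_empty] at h2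
    rw [← Set.insert_eq] at h2
    obtain ⟨a, b, hab⟩ := Submodule.mem_span_pair.1 h2
    exact ⟨a, b, hab.symm⟩
  choose cs ct hct using hspan
  -- split according to `ct z = 0`
  have h0 : ∀ z : V, Q z = 0 → ct z = 0 → z = 0 := by
    intro z hz h0
    have h1 := hct z
    rw [h0, zero_smul, add_zero] at h1
    rw [h1, QuadraticMap.map_smul, smul_eq_mul] at hz
    rcases mul_eq_zero.1 hz with h2 | h2
    · have h3 : cs z = 0 := by
        rcases mul_eq_zero.1 h2 with h3 | h3 <;> exact h3
      rw [h1, h3, zero_smul]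
    · exact absurd h2 hQv
  have hne : Nat.card {z : V // Q z = 0 ∧ z ≠ 0} ≤ 2 * Nat.card {t : F // t ≠ 0} := by
    refine Cfsg.Agent.H990.TC.Cent.card_le_of_fibres
      (fun z : {z : V // Q z = 0 ∧ z ≠ 0} => (⟨ct z.1, fun h => z.2.2 (h0 z.1 z.2.1 h)⟩ : {t : F // t ≠ 0})) 2
      fun t => ?_
    let g : {z : {z : V // Q z = 0 ∧ z ≠ 0} //
        (⟨ct z.1, fun h => z.2.2 (h0 z.1 z.2.1 h)⟩ : {t : F // t ≠ 0}) = t} →
        {s : F // Q v * s ^ 2 + ((t : F) * QuadraticMap.polar Q v w) * s + ((t : F) ^ 2 * Q w) = 0} := fun z =>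
      ⟨cs z.1.1, by
        have h1 := z.1.2.1
        have h2 : ct z.1.1 = (t : F) := congrArg Subtype.val z.2
        rw [hct z.1.1, h2, Cfsg.Agent.H990.TC.Cent.polar_expand] at h1
        linear_combination h1⟩
    have hg : Function.Injective g := by
      intro a b hab
      have h1 : cs a.1.1 = cs b.1.1 := congrArg Subtype.val hab
      have h2 : ct a.1.1 = (t : F) := congrArg Subtype.val a.2
      have h3 : ct b.1.1 = (t : F) := congrArg Subtype.val b.2
      apply Subtype.ext
      apply Subtype.ext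
      rw [hct a.1.1, hct b.1.1, h2, h3, h1]
    exact (Nat.card_le_card_of_injective g hg).trans
      (Cfsg.Agent.H990.TC.Cent.quad_roots (Or.inl hQv))
  have hF : Nat.card {t : F // t ≠ 0} = Nat.card F - 1 := by
    haveI := Fintype.ofFinite F
    rw [Nat.card_eq_fintype_card, Nat.card_eq_fintype_card, Fintype.card_subtype_compl, Fintype.card_subtype_eq]
  have hF2 : 2 ≤ Nat.card F := Finite.one_lt_card
  have hall : Nat.card {z : V // Q z = 0} ≤ Nat.card {z : V // Q z = 0 ∧ z ≠ 0} + 1 := by
    have := Nat.card_le_card_of_injective (fun z : {z : V // Q z = 0} =>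
      (if hz : z.1 ≠ 0 then some ⟨z.1, z.2, hz⟩ else none : Option {z : V // Q z = 0 ∧ z ≠ 0})) (by
        intro z z' hzz
        by_cases h1 : z.1 ≠ 0 <;> by_cases h2 : z'.1 ≠ 0
        · simp only [h1, h2, ne_eq, not_false_eq_true, dite_true, Option.some.injEq, Subtype.mk.injEq] at hzz
          exact Subtype.ext hzz
        · simp [h1, h2] at hzz
        · simp [h1, h2] at hzz
        · push Not at h1 h2
          exact Subtype.ext (h1.trans h2.symm))
    rwa [Finite.card_option] at this
  omega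

/-- singular vectors in dimension four -/
theorem card_sing_four {Q : QuadraticForm F V} (hQ : Nondeg Q) {e f : V} (he : Q e = 0) (hf : Q f = 0)
    (hef : polar Q e f = 1) (h : finrank F V = 4) :
    Nat.card {z : V // z ≠ 0 ∧ Q z = 0} ≤ Nat.card F ^ 3 + Nat.card F ^ 2 - Nat.card F - 1 := by
  classical
  haveI : Finite V := Module.finite_of_finite F
  haveI := Fintype.ofFinite F
  haveI := Fintype.ofFinite V
  haveI := Fintype.ofFinite (perp Q e f)
  set q := Nat.card F with hq
  have hq2 : 2 ≤ q := Finite.one_lt_card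
  have hW : finrank F (perp Q e f) = 2 := by have := finrank_perp he hf hef; omega
  have hs := card_sing_two (nondeg_perp he hf hef hQ) hW
  have hWc : Nat.card (perp Q e f) = q ^ 2 := by rw [Module.natCard_eq_pow_finrank (K := F), hW]
  set S : Finset (perp Q e f) := Finset.univ.filter fun w => Q (w : V) = 0 with hS
  have hSc : S.card ≤ 2 * q - 1 := by
    refine le_trans (le_of_eq ?_) hs
    rw [Nat.card_eq_fintype_card, Fintype.card_subtype]
    rfl
  -- the number of `(a, b)` with `a b = - Q w`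
  have hfib : ∀ c : F, (Finset.univ.filter fun t : F × F => t.1 * t.2 = c).card ≤ if c = 0 then 2 * q - 1 else q - 1 := by
    intro c
    split_ifs with hc
    · subst hc
      have h1 : (Finset.univ.filter fun t : F × F => t.1 * t.2 = 0) ⊆
          (Finset.univ.image fun a : F => ((a, 0) : F × F)) ∪ ((Finset.univ.erase (0 : F)).image fun b : F => ((0, b) : F × F)) := by
        rintro ⟨a, b⟩ ht
        rw [Finset.mem_filter] at ht
        rcases mul_eq_zero.1 ht.2 with h2 | h2
        · have h2 : a = 0 := h2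
          by_cases hb : b = 0
          · rw [Finset.mem_union]; left; rw [Finset.mem_image]; exact ⟨a, Finset.mem_univ _, by rw [hb]⟩
          · rw [Finset.mem_union]; right; rw [Finset.mem_image]
            exact ⟨b, Finset.mem_erase.2 ⟨hb, Finset.mem_univ _⟩, by rw [h2]⟩
        · have h2 : b = 0 := h2
          rw [Finset.mem_union]; left; rw [Finset.mem_image]; exact ⟨a, Finset.mem_univ _, by rw [h2]⟩
      refine (Finset.card_le_card h1).trans ((Finset.card_union_le _ _).trans ?_)
      refine (add_le_add Finset.card_image_le Finset.card_image_le).trans ?_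
      rw [Finset.card_erase_of_mem (Finset.mem_univ _), Finset.card_univ, ← Nat.card_eq_fintype_card]
      omega
    · have h1 : (Finset.univ.filter fun t : F × F => t.1 * t.2 = c) ⊆
          ((Finset.univ.erase (0 : F)).image fun a : F => ((a, a⁻¹ * c) : F × F)) := by
        rintro ⟨a, b⟩ ht
        rw [Finset.mem_filter] at ht
        have h2 : a * b = c := ht.2
        have ha : a ≠ 0 := by rintro rfl; rw [zero_mul] at h2; exact hc h2.symm
        rw [Finset.mem_image]
        refine ⟨a, Finset.mem_erase.2 ⟨ha, Finset.mem_univ _⟩, ?_⟩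
        rw [← h2, inv_mul_cancel_left₀ ha]
      refine (Finset.card_le_card h1).trans (Finset.card_image_le.trans ?_)
      rw [Finset.card_erase_of_mem (Finset.mem_univ _), Finset.card_univ, ← Nat.card_eq_fintype_card]
  -- all singular vectors
  have hall : Nat.card {z : V // Q z = 0} ≤ ∑ w : perp Q e f, if Q (w : V) = 0 then 2 * q - 1 else q - 1 := by
    have h1 : Nat.card {z : V // Q z = 0} ≤
        Nat.card (Σ w : perp Q e f, {t : F × F // t.1 * t.2 = -Q (w : V)}) := by
      refine Nat.card_le_card_of_injective (fun z : {z : V // Q z = 0} =>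
        (⟨(split he hf hef z.1).2, ⟨(split he hf hef z.1).1, ?_⟩⟩ :
          Σ w : perp Q e f, {t : F × F // t.1 * t.2 = -Q (w : V)})) ?_
      · have h2 := Q_split he hf hef (split he hf hef z.1)
        have h3 : (split he hf hef z.1).1.1 • e + (split he hf hef z.1).1.2 • f + ((split he hf hef z.1).2 : V) = z.1 :=
          (split he hf hef).symm_apply_apply z.1
        rw [h3, z.2] at h2
        linear_combination -h2
      · intro z z' hzz
        have h2 : (split he hf hef z.1).2 = (split he hf hef z'.1).2 := congrArg Sigma.fst hzz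
        have h3 : (split he hf hef z.1).1 = (split he hf hef z'.1).1 := by
          have := congrArg (fun s : Σ w : perp Q e f, {t : F × F // t.1 * t.2 = -Q (w : V)} => (s.2 : F × F)) hzz
          exact this
        exact Subtype.ext ((split he hf hef).injective (Prod.ext h3 h2))
    refine h1.trans ?_
    rw [Nat.card_sigma]
    refine Finset.sum_le_sum fun w _ => ?_
    rw [Nat.card_eq_fintype_card, Fintype.card_subtype]
    refine (hfib _).trans (le_of_eq ?_)
    simp only [neg_eq_zero]
  have hsum : (∑ w : perp Q e f, if Q (w : V) = 0 then 2 * q - 1 else q - 1) = (q - 1) * q ^ 2 + q * S.card := by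
    have h1 : ∀ w : perp Q e f, (if Q (w : V) = 0 then 2 * q - 1 else q - 1) = (q - 1) + if Q (w : V) = 0 then q else 0 := by
      intro w
      split_ifs
      · omega
      · omega
    rw [Finset.sum_congr rfl fun w _ => h1 w, Finset.sum_add_distrib, Finset.sum_const, Finset.card_univ,
      ← Nat.card_eq_fintype_card, hWc, ← Finset.sum_filter, Finset.sum_const, smul_eq_mul, smul_eq_mul]
    ring
  have hle : Nat.card {z : V // z ≠ 0 ∧ Q z = 0} + 1 ≤ Nat.card {z : V // Q z = 0} := by
    have := Nat.card_le_card_of_injective (fun z : Option {z : V // z ≠ 0 ∧ Q z = 0} =>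
      (match z with
        | none => ⟨0, QuadraticMap.map_zero Q⟩
        | some z => ⟨z.1, z.2.2⟩ : {z : V // Q z = 0})) (by
        rintro (_ | z) (_ | z') hzz
        · rfl
        · exact absurd (congrArg Subtype.val hzz).symm z'.2.1
        · exact absurd (congrArg Subtype.val hzz) z.2.1
        · have h1 := congrArg (fun t : {z : V // Q z = 0} => t.1) hzz
          exact congrArg some (Subtype.ext h1))
    rwa [Finite.card_option] at this
  have h5 : q * S.card ≤ q * (2 * q - 1) := Nat.mul_le_mul_left _ hSc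
  have h6 : Nat.card {z : V // z ≠ 0 ∧ Q z = 0} + 1 ≤ (q - 1) * q ^ 2 + q * (2 * q - 1) := by
    rw [hsum] at hall
    omega
  have h7 : (q - 1) * q ^ 2 + q * (2 * q - 1) = q ^ 3 + q ^ 2 - q := by
    obtain ⟨k, hk⟩ : ∃ k, q = k + 2 := ⟨q - 2, by omega⟩
    rw [hk]
    have h8 : k + 2 - 1 = k + 1 := by omega
    have h9 : 2 * (k + 2) - 1 = 2 * k + 3 := by omega
    rw [h8, h9]
    apply Nat.eq_sub_of_add_eq
    ring
  omega

/-- a hyperbolic pair -/
theorem exists_pair {Q : QuadraticForm F V} (hQ : Nondeg Q) (h : 3 ≤ finrank F V) :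
    ∃ e f : V, Q e = 0 ∧ Q f = 0 ∧ polar Q e f = 1 := by
  obtain ⟨e, -, he0, he⟩ := Cfsg.Agent.LieClassical.OrthFinite.exists_sing_mem (Q := Q) ⊤ (by rw [finrank_top]; exact h)
  obtain ⟨f, hf⟩ := hQ.exists_polar_eq he0 1
  refine ⟨e, f - Q f • e, he, ?_, ?_⟩
  · have h1 := Q_add (Q := Q) f (-(Q f • e))
    rw [← sub_eq_add_neg] at h1
    rw [h1, QuadraticMap.map_neg, QuadraticMap.map_smul, he, QuadraticMap.polar_neg_right,
      QuadraticMap.polar_smul_right, polar_comm, hf]
    simp
  · rw [QuadraticMap.polar_sub_right, QuadraticMap.polar_smul_right, hf, polar_self', he]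
    simp

theorem lemmaC3 (R : QuadraticForm F V) (hR : Nondeg R) (hd : finrank F V = 3) :
    Nat.card {y : Module.End F V // ∀ u, R (y u) = R u} ≤ 2 * Nat.card F ^ 4 := by
  haveI : Finite V := Module.finite_of_finite F
  obtain ⟨e, f, he, hf, hef⟩ := exists_pair hR (by omega)
  have hW : finrank F (perp R e f) = 1 := by have := finrank_perp he hf hef; omega
  have hWc : Nat.card (perp R e f) = Nat.card F := by rw [Module.natCard_eq_pow_finrank (K := F), hW, pow_one]
  have hN : Nat.card {z : V // z ≠ 0 ∧ R z = 0} ≤ Nat.card F ^ 3 := by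
    rw [← hd, ← Module.natCard_eq_pow_finrank]
    exact Nat.card_le_card_of_injective _ Subtype.val_injective
  have h1 := Cfsg.Agent.H990.TC.Cent.card_iso_one (R.comp (perp R e f).subtype)
    (fun u hu => nondeg_perp he hf hef hR u fun v => by rw [polar_comm, hu]) hW
  have h2 := card_iso_hyp he hf hef hR h1 hN
  refine h2.trans (le_of_eq ?_)
  rw [hWc]; ring

theorem lemmaC4 (R : QuadraticForm F V) (hR : Nondeg R) (hd : finrank F V = 4) :
    Nat.card {y : Module.End F V // ∀ u, R (y u) = R u} ≤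
      (Nat.card F ^ 3 + Nat.card F ^ 2 - Nat.card F - 1) * Nat.card F ^ 2 * (4 * Nat.card F) := by
  obtain ⟨e, f, he, hf, hef⟩ := exists_pair hR (by omega)
  have hW : finrank F (perp R e f) = 2 := by have := finrank_perp he hf hef; omega
  have hWc : Nat.card (perp R e f) = Nat.card F ^ 2 := by rw [Module.natCard_eq_pow_finrank (K := F), hW]
  have h1 := Cfsg.Agent.H990.TC.Cent.card_iso_two (R.comp (perp R e f).subtype)
    (fun u hu => nondeg_perp he hf hef hR u fun v => by rw [polar_comm, hu]) hW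
  have h2 := card_iso_hyp he hf hef hR h1 (card_sing_four hR he hf hef hd)
  refine h2.trans (le_of_eq ?_)
  rw [hWc]; ring

end Cfsg.Agent.H36.Og

private theorem dce_325aa8dd3ddb : _root_.True := by
  try have : _root_.True := by simp only [_root_.Cfsg.Agent.H36.Og.perp.eq_1]
  exact _root_.True.intro
end

-- part: H16/Og/Seven
section
set_option linter.all false
open scoped Cfsg.Agent.FastGrp

/-!
# The groups `Ω_7(q)`, primes dividing `q² + 1` (helper16, for S2454)
-/

set_option autoImplicit false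

namespace Cfsg.Agent.H16.Og

open QuadraticMap Matrix Module Subgroup Cfsg.Agent.LieClassical.OrthCore Cfsg.Agent.LieClassical.OrthTrans
  Cfsg.Agent.LieClassical.OrthFinite Cfsg.Agent.H105.Og Cfsg.Agent.H514.DP

section Odd

variable {F : Type*} [Field F] {V : Type*} [AddCommGroup V] [Module F V] {Q : QuadraticForm F V}

/-- squares are in `E` -/
theorem sq_mem_E [FiniteDimensional F V] (hG : Good Q) {g : V ≃ₗ[F] V} (hg : g ∈ O Q) : g * g ∈ E Q := by
  have hcomm : ∀ g ∈ O Q, ∀ h ∈ O Q, g * h * g⁻¹ * h⁻¹ ∈ E Q := by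
    intro g hg h hh
    rw [← hG.commutator_eq_E]
    exact Subgroup.commutator_mem_commutator hg hh
  rw [O_eq_closure hG.nondeg] at hg
  have hle : ∀ x ∈ Subgroup.closure (reflSet Q ∪ siegelSet Q), x ∈ O Q := fun x hx => by
    rw [O_eq_closure hG.nondeg]; exact hx
  induction hg using Subgroup.closure_induction with
  | mem x hx =>
    rcases hx with ⟨v, hv, rfl⟩ | hx
    · rw [refl_mul_self]; exact one_mem _
    · exact mul_mem (Subgroup.subset_closure hx) (Subgroup.subset_closure hx)
  | one => rw [one_mul]; exact one_mem _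
  | mul g h hg hh h1 h2 =>
    have e : g * h * (g * h) = (g * g) * (g⁻¹ * h * g⁻¹⁻¹ * h⁻¹) * (h * h) := by group
    rw [e]
    exact mul_mem (mul_mem h1 (hcomm _ (inv_mem (hle g hg)) _ (hle h hh))) h2
  | inv g hg h =>
    have e : g⁻¹ * g⁻¹ = (g * g)⁻¹ := by group
    rw [e]
    exact inv_mem h

/-- elements of odd order are in `E` -/
theorem mem_E_of_odd [FiniteDimensional F V] (hG : Good Q) {g : V ≃ₗ[F] V} (hg : g ∈ O Q) {m : ℕ} (hm : Odd m)
    (h : g ^ m = 1) : g ∈ E Q := by
  obtain ⟨k, rfl⟩ := hm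
  have h1 : g = (g ^ (k + 1) * g ^ (k + 1)) := by
    rw [← pow_add, show k + 1 + (k + 1) = (2 * k + 1) + 1 by ring, pow_succ, h, one_mul]
  rw [h1]
  exact sq_mem_E hG (pow_mem hg _)

end Odd

section Exists

variable {F : Type} [Field F] [Finite F] {U : Type} [AddCommGroup U] [Module F U] [FiniteDimensional F U]

/-- isometries of given prime order -/
theorem exists_isom {n : ℕ} {p : ℕ} (hp : p.Prime) (h2 : (2 : F) ≠ 0) {R : QuadraticForm F U} (hR : Nondeg R)
    (hU : finrank F U = 1) {i : ℕ} (hi : i < n) (hd : p ∣ Nat.card F ^ (2 * (i + 1)) - 1) :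
    ∃ g ∈ O (HU (Fin n) R), orderOf g = p := by
  classical
  have := Fintype.ofFinite F
  have : Fact p.Prime := ⟨hp⟩
  -- an element of the matrix group
  have hodd : Odd (Nat.card F) := by
    rcases Nat.even_or_odd (Nat.card F) with h | h
    · exfalso
      rw [Nat.card_eq_fintype_card] at h
      have h3 : ringChar F = 2 := by
        by_contra hne
        have := FiniteField.odd_card_of_char_ne_two hne
        rw [Nat.even_iff] at h
        omega
      exact h2 (by have := (CharP.cast_eq_zero F (ringChar F)); rw [h3] at this; exact_mod_cast this)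
    · exact h
  have hcard := S0286.result (F := F) rfl (by rw [← Nat.card_eq_fintype_card]; exact hodd) n
  have hdv : p ∣ Nat.card (Cfsg.isometryGroup F (Cfsg.quadFormOdd n F)) := by
    rw [hcard]
    refine dvd_mul_of_dvd_right ?_ _
    refine dvd_trans ?_ (Finset.dvd_prod_of_mem _ (Finset.mem_range.2 hi))
    rw [← Nat.card_eq_fintype_card]
    exact hd
  have : Finite (Cfsg.isometryGroup F (Cfsg.quadFormOdd n F)) := inferInstance
  obtain ⟨x, hx⟩ := exists_prime_orderOf_dvd_card' p hdv
  -- the coordinates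
  let φ : U ≃ₗ[F] F := LinearEquiv.ofFinrankEq U F (by rw [hU, finrank_self])
  set u0 : U := φ.symm 1 with hu0
  have hφ : ∀ t : F, φ.symm t = t • u0 := by
    intro t
    rw [hu0, ← map_smul, smul_eq_mul, mul_one]
  have hr0 : R u0 ≠ 0 := by
    intro h0
    have h3 : u0 = 0 := by
      apply hR
      intro y
      have h4 : y = φ y • u0 := by rw [← hφ, LinearEquiv.symm_apply_apply]
      rw [h4, polar_smul_right, polar_self, h0, smul_zero, smul_zero]
    have h4 : φ u0 = 1 := by rw [hu0, LinearEquiv.apply_symm_apply]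
    rw [h3, map_zero] at h4
    exact zero_ne_one h4
  set r := R u0 with hr
  let e : (Unit ⊕ (Fin n ⊕ Fin n) → F) ≃ₗ[F] (((Fin n → F) × (Fin n → F)) × U) :=
    { toFun := fun v => ((fun i => v (.inr (.inl i)), fun i => r * v (.inr (.inr i))), φ.symm (v (.inl ())))
      map_add' := fun v w => by
        refine Prod.ext (Prod.ext rfl ?_) ?_
        · funext i
          show r * (v _ + w _) = r * v _ + r * w _
          ring
        · exact map_add φ.symm _ _
      map_smul' := fun c v => by
        refine Prod.ext (Prod.ext rfl ?_) ?_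
        · funext i
          show r * (c * v _) = c * (r * v _)
          ring
        · exact map_smul φ.symm c _
      invFun := fun w => Sum.elim (fun _ => φ w.2) (Sum.elim w.1.1 (fun i => r⁻¹ * w.1.2 i))
      left_inv := fun v => by
        funext i
        rcases i with i | i | i
        · exact φ.apply_symm_apply _
        · rfl
        · show r⁻¹ * (r * v _) = v _
          rw [← mul_assoc, inv_mul_cancel₀ hr0, one_mul]
      right_inv := fun w => by
        refine Prod.ext (Prod.ext rfl ?_) ?_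
        · funext i
          show r * (r⁻¹ * w.1.2 i) = w.1.2 i
          rw [← mul_assoc, mul_inv_cancel₀ hr0, one_mul]
        · exact φ.symm_apply_apply _ }
  have he : ∀ v, HU (Fin n) R (e v) = r * Cfsg.quadFormOdd n F v := by
    intro v
    rw [HU_apply]
    show (fun i => v (.inr (.inl i))) ⬝ᵥ (fun i => r * v (.inr (.inr i))) + R (φ.symm (v (.inl ()))) = _
    rw [hφ, QuadraticMap.map_smul, ← hr, Cfsg.quadFormOdd, dotProduct, mul_add, Finset.mul_sum, smul_eq_mul, add_comm]
    congr 1
    · ring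
    · refine Finset.sum_congr rfl fun i _ => ?_
      ring
  let ψ : Cfsg.isometryGroup F (Cfsg.quadFormOdd n F) →* ((((Fin n → F) × (Fin n → F)) × U) ≃ₗ[F] (((Fin n → F) × (Fin n → F)) × U)) :=
    (H122.OrthIso.cj e).toMonoidHom.comp ((glEquiv (Unit ⊕ (Fin n ⊕ Fin n)) F).toMonoidHom.comp
      (Cfsg.isometryGroup F (Cfsg.quadFormOdd n F)).subtype)
  have hψ : Function.Injective ψ :=
    (H122.OrthIso.cj e).injective.comp ((glEquiv (Unit ⊕ (Fin n ⊕ Fin n)) F).injective.comp (Subgroup.subtype_injective _))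
  refine ⟨ψ x, ?_, by rw [orderOf_injective ψ hψ, hx]⟩
  intro v
  obtain ⟨w, rfl⟩ := e.surjective v
  have h3 : ψ x (e w) = e ((x.1.1 : Matrix _ _ F).mulVec w) := by
    have h4 : e.symm (e w) = w := e.symm_apply_apply w
    show e ((x.1.1 : Matrix _ _ F).mulVec (e.symm (e w))) = _
    rw [h4]
  rw [h3, he, he, mem_isometryGroup_iff.1 x.2 w]

/-- the centralizer in `E` -/
theorem card_cent_le {V : Type*} [AddCommGroup V] [Module F V] [FiniteDimensional F V] {Q : QuadraticForm F V} (x : E Q) :
    Nat.card (centralizer ({x} : Set (E Q))) ≤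
      Nat.card {y : Module.End F V // Commute (x.1 : V →ₗ[F] V) y ∧ ∀ v, Q (y v) = Q v} := by
  refine Nat.card_le_card_of_injective (fun g => ⟨((g.1.1 : V ≃ₗ[F] V) : V →ₗ[F] V), ?_, ?_⟩) ?_
  · have h := mem_centralizer_singleton_iff.1 g.2
    have h1 : x.1 * g.1.1 = g.1.1 * x.1 := (congrArg Subtype.val h).symm
    apply LinearMap.ext
    intro v
    exact LinearEquiv.congr_fun h1 v
  · exact E_le_O g.1.2
  · intro a b hab
    apply Subtype.ext
    apply Subtype.ext
    apply LinearEquiv.ext
    intro v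
    exact LinearMap.congr_fun (congrArg Subtype.val hab) v

end Exists

section Num

theorem num7_aux {A D x : ℕ} (h1 : 9 * A ≤ 20 * x ^ 3) (h2 : 71 * x ^ 2 ≤ 81 * D) (hx : 9 ≤ x) : A ^ 16 < D ^ 28 := by
  have h3 : 9 ^ 16 * A ^ 16 ≤ 20 ^ 16 * x ^ 48 := by
    have := Nat.pow_le_pow_left h1 16
    rw [mul_pow, mul_pow, ← pow_mul] at this
    exact this
  have h4 : 71 ^ 28 * x ^ 56 ≤ 81 ^ 28 * D ^ 28 := by
    have := Nat.pow_le_pow_left h2 28
    rw [mul_pow, mul_pow, ← pow_mul] at this
    exact this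
  have h5 : 81 ^ 28 * 20 ^ 16 < 9 ^ 16 * 71 ^ 28 * x ^ 8 := by
    have : 9 ^ 8 ≤ x ^ 8 := Nat.pow_le_pow_left hx 8
    calc 81 ^ 28 * 20 ^ 16 < 9 ^ 16 * 71 ^ 28 * 9 ^ 8 := by norm_num
      _ ≤ _ := Nat.mul_le_mul_left _ this
  by_contra hcon
  push Not at hcon
  have hx48 : 0 < x ^ 48 := pow_pos (by omega) _
  have h6 : 81 ^ 28 * 20 ^ 16 * x ^ 48 < 9 ^ 16 * 71 ^ 28 * x ^ 8 * x ^ 48 := Nat.mul_lt_mul_of_pos_right h5 hx48
  have h7 : 9 ^ 16 * (71 ^ 28 * x ^ 56) ≤ 81 ^ 28 * 20 ^ 16 * x ^ 48 := by
    calc 9 ^ 16 * (71 ^ 28 * x ^ 56) ≤ 9 ^ 16 * (81 ^ 28 * D ^ 28) := Nat.mul_le_mul_left _ h4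
      _ ≤ 9 ^ 16 * (81 ^ 28 * A ^ 16) := Nat.mul_le_mul_left _ (Nat.mul_le_mul_left _ hcon)
      _ = 81 ^ 28 * (9 ^ 16 * A ^ 16) := by ring
      _ ≤ 81 ^ 28 * (20 ^ 16 * x ^ 48) := Nat.mul_le_mul_left _ h3
      _ = _ := by ring
  have h8 : 9 ^ 16 * 71 ^ 28 * x ^ 8 * x ^ 48 = 9 ^ 16 * (71 ^ 28 * x ^ 56) := by ring
  rw [h8] at h6
  exact absurd (h7.trans_lt h6) (lt_irrefl _)

theorem num7 {q : ℕ} (hq : 3 ≤ q) : ((q ^ 2 + 1) * (2 * q ^ 4)) ^ 16 < ((q - 1) * (q ^ 3 + q ^ 2) - 1) ^ 28 := by
  -- `d = q⁴ - q² - 1 ≥ 71/81 q⁴`, `C ≤ 20/9 q⁶`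
  have hd : (q - 1) * (q ^ 3 + q ^ 2) - 1 = q ^ 4 - q ^ 2 - 1 := by
    obtain ⟨k, rfl⟩ := Nat.exists_eq_add_of_le' hq
    have h1 : (k + 3 - 1) * ((k + 3) ^ 3 + (k + 3) ^ 2) + (k + 3) ^ 2 = (k + 3) ^ 4 := by
      show (k + 2) * _ + _ = _
      ring
    omega
  rw [hd]
  set x := q ^ 2 with hx
  have hx9 : 9 ≤ x := Nat.pow_le_pow_left hq 2
  have e4 : q ^ 4 = x ^ 2 := by rw [hx]; ring
  rw [e4]
  refine num7_aux (x := x) ?_ ?_ hx9
  · nlinarith only [hx9]
  · have h3 : 81 * (x + 1) ≤ 10 * x ^ 2 := by nlinarith only [hx9]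
    omega

end Num

theorem zmod_two : ∀ a : ZMod 2, a ≠ 0 → a = 1 := by decide

/-- **LEMMA X3**, given the degree bound. -/
theorem lemmaX_seven_of {F : Type} [Field F] [Finite F] {U : Type} [AddCommGroup U] [Module F U] [FiniteDimensional F U]
    {p : ℕ} (hp : p.Prime) (ho : orderOf ((Nat.card F : ℕ) : ZMod p) = 4)
    (h2 : (2 : F) ≠ 0) {R : QuadraticForm F U} (hR : Nondeg R) (hU : finrank F U = 1)
    (hA : MinDeg (E (HU (Fin 3) R)) ((Nat.card F - 1) * (Nat.card F ^ 3 + Nat.card F ^ 2) - 1)) :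
    PW p 70 (E (HU (Fin 3) R)) := by
  have := Fintype.ofFinite F
  have : Fact p.Prime := ⟨hp⟩
  set Q := HU (Fin 3) R with hQ
  have hnd : Nondeg Q := nondeg_HU hR
  have hdim : finrank F (((Fin 3 → F) × (Fin 3 → F)) × U) = 7 := by
    rw [finrank_prod, finrank_prod, finrank_fin_fun, hU]
  have hG : Good Q := good_of_finite hnd (by omega)
  have hq3 : 3 ≤ Nat.card F := by
    have h1 : 2 ≤ Nat.card F := Finite.one_lt_card
    have h3 : Nat.card F ≠ 2 := by
      intro h
      apply h2
      have := FiniteField.cast_card_eq_zero F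
      rw [← Nat.card_eq_fintype_card, h] at this
      exact_mod_cast this
    omega
  -- arithmetic
  have hq0 : ((Nat.card F : ℕ) : ZMod p) ≠ 0 := by
    intro h0
    rw [h0] at ho
    have := pow_orderOf_eq_one (0 : ZMod p)
    rw [ho] at this
    norm_num at this
  have h4 : p ∣ Nat.card F ^ 4 - 1 := by
    have h5 : ((Nat.card F : ℕ) : ZMod p) ^ 4 = 1 := by rw [← ho]; exact pow_orderOf_eq_one _
    rw [← ZMod.natCast_eq_zero_iff, Nat.cast_sub (Nat.one_le_pow _ _ (by omega))]
    push_cast
    rw [h5, sub_self]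
  have hn2 : ¬ p ∣ Nat.card F ^ 2 - 1 := by
    intro h
    rw [← ZMod.natCast_eq_zero_iff, Nat.cast_sub (Nat.one_le_pow _ _ (by omega))] at h
    push_cast at h
    have h5 := orderOf_dvd_of_pow_eq_one (sub_eq_zero.1 h)
    rw [ho] at h5
    exact absurd (Nat.le_of_dvd (by norm_num) h5) (by norm_num)
  have hk : p ∣ Nat.card F ^ 2 + 1 := by
    have hfac : Nat.card F ^ 4 - 1 = (Nat.card F ^ 2 + 1) * (Nat.card F ^ 2 - 1) := by
      have := Nat.sq_sub_sq (Nat.card F ^ 2) 1
      rw [← pow_mul] at this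
      simpa only [_root_.Nat.card_eq_fintype_card, _root_.Nat.reduceMul, _root_.one_pow] using this
    rw [hfac] at h4
    exact ((Nat.Prime.dvd_mul hp).1 h4).resolve_right hn2
  have hpodd : Odd p := by
    refine hp.odd_of_ne_two ?_
    rintro rfl
    have h5 : ((Nat.card F : ℕ) : ZMod 2) = 1 := zmod_two _ hq0
    rw [h5, orderOf_one] at ho
    norm_num at ho
  have hpF : (p : F) ≠ 0 := by
    intro h0
    obtain ⟨l, hl⟩ := CharP.exists F
    have hlp : l.Prime := CharP.char_is_prime F l
    have h5 : p = l := (Nat.prime_dvd_prime_iff_eq hlp hp).1 ((CharP.cast_eq_zero_iff F l p).1 h0) |>.symm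
    subst h5
    apply hq0
    have h6 := FiniteField.cast_card_eq_zero F
    rw [← Nat.card_eq_fintype_card] at h6
    rw [ZMod.natCast_eq_zero_iff]
    exact (CharP.cast_eq_zero_iff F p _).1 h6
  -- the element
  obtain ⟨g, hgO, hg⟩ := exists_isom (n := 3) (i := 1) hp h2 hR hU (by norm_num) h4
  have hgE : g ∈ E Q := mem_E_of_odd hG hgO hpodd (by rw [← hg, pow_orderOf_eq_one])
  let x : E Q := ⟨g, hgE⟩
  have hx : orderOf x = p := by
    rw [← hg]
    exact (orderOf_injective (E Q).subtype (Subgroup.subtype_injective _) x).symm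
  have hg1 : (g : (((Fin 3 → F) × (Fin 3 → F)) × U) →ₗ[F] (((Fin 3 → F) × (Fin 3 → F)) × U)) ≠ 1 := by
    intro h
    have h5 : g = 1 := by
      apply LinearEquiv.ext
      intro v
      exact LinearMap.congr_fun h v
    rw [h5, orderOf_one] at hg
    exact hp.one_lt.ne hg
  have hgp : (g : (((Fin 3 → F) × (Fin 3 → F)) × U) →ₗ[F] (((Fin 3 → F) × (Fin 3 → F)) × U)) ^ p = 1 := by
    have h5 : g ^ p = 1 := by rw [← hg, pow_orderOf_eq_one]
    have h6 : ∀ k : ℕ, ∀ v, ((g : (((Fin 3 → F) × (Fin 3 → F)) × U) →ₗ[F] (((Fin 3 → F) × (Fin 3 → F)) × U)) ^ k) v = (g ^ k) v := by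
      intro k
      induction k with
      | zero => intro v; rfl
      | succ k ih => intro v; rw [pow_succ, pow_succ, Module.End.mul_apply, ih]; rfl
    apply LinearMap.ext
    intro v
    rw [h6, h5]
    rfl
  have hdec := H990.TC.Cent.dec Q (fun u hu => hnd u fun y => by rw [polar_comm]; exact hu y) hp hpF
    (g : (((Fin 3 → F) × (Fin 3 → F)) × U) →ₗ[F] (((Fin 3 → F) × (Fin 3 → F)) × U)) hg1 hgp hgO (k := 2) ho (by omega) hk
    (2 * Nat.card F ^ 4) (by
      intro W hW hWnd
      refine H36.Og.lemmaC3 (Q.comp W.subtype) ?_ (by rw [hW, hdim])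
      intro u hu
      exact hWnd u fun v => by rw [polar_comm]; exact hu v)
  have hcard : Nat.card (centralizer ({x} : Set (E Q))) ≤ (Nat.card F ^ 2 + 1) * (2 * Nat.card F ^ 4) :=
    (card_cent_le x).trans hdec
  have hperf : commutator (E Q) = ⊤ := by
    rw [eq_top_iff]
    intro y _
    have h5 : y.1 ∈ ⁅E Q, E Q⁆ := by rw [hG.E_perfect]; exact y.2
    have h6 : (⁅E Q, E Q⁆ : Subgroup _) = (_root_.commutator (E Q)).map (E Q).subtype := by
      rw [_root_.commutator_def, Subgroup.map_commutator, ← MonoidHom.range_eq_map, Subgroup.range_subtype]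
    rw [h6] at h5
    obtain ⟨z, hz, hzy⟩ := h5
    have : z = y := Subtype.ext hzy
    rw [← this]
    exact hz
  have hfV : Finite (((Fin 3 → F) × (Fin 3 → F)) × U) := Module.finite_of_finite F
  have hfE : Finite ((((Fin 3 → F) × (Fin 3 → F)) × U) ≃ₗ[F] (((Fin 3 → F) × (Fin 3 → F)) × U)) := DFunLike.finite _
  have h7 := PW.of_pe (m := 1) (k := 16) hperf (IsPE.of_prime hx).pe hA (by norm_num)
    (lt_of_le_of_lt (Nat.pow_le_pow_left (by omega) 16) (num7 hq3))
  exact h7.mono (by norm_num)

end Cfsg.Agent.H16.Og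
end
end
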